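import Mathlib

/-!
# The étale algebra of tuples of simple roots of monic polynomials
-/

set_option autoImplicit false
set_option linter.style.haveILetI false

universe u

open Polynomial

namespace Groth.Agent.EtMultisectLib

variable (R : Type u) [CommRing R] {n : ℕ}

/-- `q` is a tuple of simple roots of the images of `f`. -/
def Test {R Q : Type*} [CommRing R] [CommRing Q] {n : ℕ} (ρ : R →+* Q) (f : Fin n → R[X]) (q : Fin n → Q) : Prop :=
  ∀ i, (f i).eval₂ ρ (q i) = 0 ∧ IsUnit ((derivative (f i)).eval₂ ρ (q i))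

theorem Test.map {R Q Q' : Type*} [CommRing R] [CommRing Q] [CommRing Q'] {n : ℕ} {ρ : R →+* Q}
    {f : Fin n → R[X]} {q : Fin n → Q} (h : Test ρ f q) (g : Q →+* Q') :
    Test (g.comp ρ) f (g ∘ q) := fun i => by
  refine ⟨?_, ?_⟩
  · rw [Function.comp_apply, ← hom_eval₂, (h i).1, map_zero]
  · rw [Function.comp_apply, ← hom_eval₂]; exact (h i).2.map g

/-- The ideal of common roots. -/
noncomputable def rootsIdeal (f : Fin n → R[X]) : Ideal (MvPolynomial (Fin n) R) :=
  Ideal.span (Set.range fun i => aeval (MvPolynomial.X i : MvPolynomial (Fin n) R) (f i))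

/-- The product of the derivatives at the roots. -/
noncomputable def rootsDenom (f : Fin n → R[X]) : MvPolynomial (Fin n) R ⧸ rootsIdeal R f :=
  Ideal.Quotient.mk _ (∏ i, aeval (MvPolynomial.X i : MvPolynomial (Fin n) R) (derivative (f i)))

/-- The algebra of tuples of simple roots. -/
abbrev SimpleRoots (f : Fin n → R[X]) : Type u := Localization.Away (rootsDenom R f)

theorem map_aeval_X {Q : Type*} [CommRing Q] (φ : MvPolynomial (Fin n) R →+* Q) (i : Fin n) (g : R[X]) :
    φ (aeval (MvPolynomial.X i) g) = g.eval₂ (φ.comp MvPolynomial.C) (φ (MvPolynomial.X i)) := by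
  rw [aeval_def, hom_eval₂]; rfl

theorem test_simpleRoots (f : Fin n → R[X]) :
    Test (algebraMap R (SimpleRoots R f)) f
      (fun i => algebraMap (MvPolynomial (Fin n) R) (SimpleRoots R f) (MvPolynomial.X i)) := by
  intro i
  have hC : (algebraMap (MvPolynomial (Fin n) R) (SimpleRoots R f)).comp MvPolynomial.C =
      algebraMap R (SimpleRoots R f) :=
    (IsScalarTower.algebraMap_eq R (MvPolynomial (Fin n) R) _).symm
  refine ⟨?_, ?_⟩
  · rw [← hC, ← map_aeval_X, IsScalarTower.algebraMap_apply _ (MvPolynomial (Fin n) R ⧸ rootsIdeal R f),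
      Ideal.Quotient.algebraMap_eq,
      show Ideal.Quotient.mk (rootsIdeal R f) (aeval (MvPolynomial.X i) (f i)) = 0 from
        Ideal.Quotient.eq_zero_iff_mem.mpr (Ideal.subset_span ⟨i, rfl⟩), map_zero]
  · rw [← hC, ← map_aeval_X, IsScalarTower.algebraMap_apply _ (MvPolynomial (Fin n) R ⧸ rootsIdeal R f),
      Ideal.Quotient.algebraMap_eq]
    refine isUnit_of_dvd_unit (map_dvd _ (map_dvd _ (Finset.dvd_prod_of_mem (fun j => aeval (MvPolynomial.X j : MvPolynomial (Fin n) R) (derivative (f j))) (Finset.mem_univ i))))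
      (IsLocalization.Away.algebraMap_isUnit (rootsDenom R f))

/-- A map out of the algebra of simple roots. -/
theorem exists_hom {Q : Type*} [CommRing Q] (f : Fin n → R[X]) (φ : MvPolynomial (Fin n) R →+* Q)
    (h : Test (φ.comp MvPolynomial.C) f (fun i => φ (MvPolynomial.X i))) :
    ∃ g : SimpleRoots R f →+* Q, g.comp (algebraMap (MvPolynomial (Fin n) R) (SimpleRoots R f)) = φ := by
  have hle : rootsIdeal R f ≤ RingHom.ker φ := Ideal.span_le.mpr <| by
    rintro _ ⟨i, rfl⟩
    show φ _ = 0
    rw [map_aeval_X]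
    exact (h i).1
  let g₀ := Ideal.Quotient.lift (rootsIdeal R f) φ hle
  have hu : IsUnit (g₀ (rootsDenom R f)) := by
    show IsUnit (φ _)
    rw [map_prod, IsUnit.prod_iff]
    intro i _
    rw [map_aeval_X]
    exact (h i).2
  refine ⟨IsLocalization.Away.lift _ hu, RingHom.ext fun p => ?_⟩
  rw [RingHom.comp_apply, IsScalarTower.algebraMap_apply _ (MvPolynomial (Fin n) R ⧸ rootsIdeal R f),
    IsLocalization.Away.lift_eq]
  rfl

theorem hom_ext {Q : Type*} [CommRing Q] {f : Fin n → R[X]} {g g' : SimpleRoots R f →+* Q}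
    (h : g.comp (algebraMap (MvPolynomial (Fin n) R) (SimpleRoots R f)) =
      g'.comp (algebraMap (MvPolynomial (Fin n) R) (SimpleRoots R f))) : g = g' := by
  refine IsLocalization.ringHom_ext (Submonoid.powers (rootsDenom R f)) (Ideal.Quotient.ringHom_ext ?_)
  exact h

theorem finitePresentation_simpleRoots (f : Fin n → R[X]) :
    Algebra.FinitePresentation R (SimpleRoots R f) := by
  haveI : Algebra.FinitePresentation R (MvPolynomial (Fin n) R ⧸ rootsIdeal R f) :=
    Algebra.FinitePresentation.quotient (Submodule.fg_span (Set.finite_range _))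
  haveI := IsLocalization.Away.finitePresentation (rootsDenom R f) (S := SimpleRoots R f)
  exact Algebra.FinitePresentation.trans R (MvPolynomial (Fin n) R ⧸ rootsIdeal R f) _

/-- Simple roots lift uniquely along square zero extensions. -/
theorem existsUnique_root {A : Type*} [CommRing A] (I : Ideal A) (hI : I ^ 2 = ⊥) (g : A[X]) (a : A)
    (h0 : g.eval a ∈ I) (hu : IsUnit ((derivative g).eval a)) :
    ∃! ε : A, ε ∈ I ∧ g.eval (a + ε) = 0 := by
  have hmul : ∀ x ∈ I, ∀ y ∈ I, x * y = 0 := fun x hx y hy => by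
    have h := Ideal.mul_mem_mul hx hy
    rw [← pow_two, hI] at h
    exact (Submodule.mem_bot _).mp h
  have hexp : ∀ ε ∈ I, g.eval (a + ε) = g.eval a + (derivative g).eval a * ε := fun ε hε => by
    obtain ⟨c, hc⟩ := g.binomExpansion a ε
    rw [hc, pow_two, hmul ε hε ε hε, mul_zero, add_zero]
  obtain ⟨w, hw⟩ := hu.exists_left_inv
  refine ⟨-(w * g.eval a), ⟨I.neg_mem (I.mul_mem_left _ h0), ?_⟩, fun ε hε => ?_⟩
  · rw [hexp _ (I.neg_mem (I.mul_mem_left _ h0))]
    linear_combination (-g.eval a) * hw
  · have h1 := hexp ε hε.1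
    rw [hε.2] at h1
    linear_combination (-w) * h1 - ε * hw

theorem formallyEtale_simpleRoots (f : Fin n → R[X]) : Algebra.FormallyEtale R (SimpleRoots R f) := by
  rw [Algebra.FormallyEtale.iff_comp_bijective]
  intro A _ _ I hI
  let P := MvPolynomial (Fin n) R
  let z : Fin n → SimpleRoots R f := fun i => algebraMap P _ (MvPolynomial.X i)
  have hnil : ∀ x : A, IsUnit (Ideal.Quotient.mk I x) → IsUnit x := fun x hx => by
    obtain ⟨y, hy⟩ := hx.exists_right_inv
    obtain ⟨y, rfl⟩ := Ideal.Quotient.mk_surjective y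
    rw [← map_mul, ← map_one (Ideal.Quotient.mk I), Ideal.Quotient.eq] at hy
    have h2 : (x * y - 1) ^ 2 = 0 := by
      have := Ideal.pow_mem_pow hy 2
      rw [hI] at this
      exact (Submodule.mem_bot _).mp this
    exact isUnit_of_dvd_one ⟨y * (2 - x * y), by linear_combination h2⟩
  have hagree : ∀ (g g' : SimpleRoots R f →ₐ[R] A), (∀ i, g (z i) = g' (z i)) → g = g' := fun g g' h => by
    apply AlgHom.coe_ringHom_injective
    refine hom_ext R (MvPolynomial.ringHom_ext (fun r => ?_) h)
    show g (algebraMap P _ (algebraMap R P r)) = g' (algebraMap P _ (algebraMap R P r))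
    rw [← IsScalarTower.algebraMap_apply, g.commutes, g'.commutes]
  have htest : ∀ {B : Type u} [CommRing B] [Algebra R B] (g : SimpleRoots R f →ₐ[R] B),
      Test (algebraMap R B) f (fun i => g (z i)) := fun {B} _ _ g => by
    have := (test_simpleRoots R f).map g.toRingHom
    rwa [show g.toRingHom.comp (algebraMap R _) = algebraMap R B from g.comp_algebraMap] at this
  constructor
  · intro g g' h
    refine hagree g g' fun i => ?_
    have ht := htest g i
    have ht' := htest g' i
    rw [eval₂_eq_eval_map] at ht ht'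
    rw [eval₂_eq_eval_map] at ht
    have hd : g' (z i) - g (z i) ∈ I := by
      rw [← Ideal.Quotient.eq]
      exact (DFunLike.congr_fun h (z i)).symm
    have hu : IsUnit ((derivative ((f i).map (algebraMap R A))).eval (g (z i))) := by
      rw [derivative_map]; exact ht.2
    obtain ⟨ε, -, huniq⟩ := existsUnique_root I hI ((f i).map (algebraMap R A)) (g (z i))
      (by rw [ht.1]; exact I.zero_mem) hu
    have e1 := huniq 0 ⟨I.zero_mem, by rw [add_zero]; exact ht.1⟩
    have e2 := huniq (g' (z i) - g (z i)) ⟨hd, by rw [add_sub_cancel]; exact ht'.1⟩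
    exact (sub_eq_zero.mp (e2.trans e1.symm)).symm
  · intro g
    choose a ha using fun i => Ideal.Quotient.mk_surjective (g (z i))
    have hcomp : (Ideal.Quotient.mk I).comp (algebraMap R A) = algebraMap R (A ⧸ I) := rfl
    have hroot : ∀ i, ∃! ε : A, ε ∈ I ∧ ((f i).map (algebraMap R A)).eval (a i + ε) = 0 := fun i => by
      refine existsUnique_root I hI _ _ ?_ (hnil _ ?_)
      · rw [← Ideal.Quotient.eq_zero_iff_mem, eval_map, hom_eval₂, hcomp, ha]
        exact (htest g i).1
      · rw [derivative_map, eval_map, hom_eval₂, hcomp, ha]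
        exact (htest g i).2
    choose ε hε using fun i => (hroot i).exists
    let φ : P →ₐ[R] A := MvPolynomial.aeval fun i => a i + ε i
    have ht : Test (φ.toRingHom.comp MvPolynomial.C) f (fun i => φ (MvPolynomial.X i)) := fun i => by
      simp only
      rw [show φ.toRingHom.comp MvPolynomial.C = algebraMap R A from φ.comp_algebraMap,
        show φ (MvPolynomial.X i) = a i + ε i from MvPolynomial.aeval_X _ _]
      refine ⟨by rw [← eval_map]; exact (hε i).2, hnil _ ?_⟩
      rw [hom_eval₂, hcomp, map_add, ha, Ideal.Quotient.eq_zero_iff_mem.mpr (hε i).1, add_zero]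
      exact (htest g i).2
    obtain ⟨G, hG⟩ := exists_hom R f φ.toRingHom ht
    let G' : SimpleRoots R f →ₐ[R] A :=
      { G with
        commutes' := fun r => by
          show G (algebraMap R _ r) = _
          rw [IsScalarTower.algebraMap_apply R P]
          exact (RingHom.congr_fun hG _).trans (φ.commutes r) }
    refine ⟨G', AlgHom.coe_ringHom_injective (hom_ext R (MvPolynomial.ringHom_ext (fun r => ?_) fun i => ?_))⟩
    · show Ideal.Quotient.mkₐ R I (G' (algebraMap P _ (algebraMap R P r))) = g (algebraMap P _ (algebraMap R P r))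
      rw [← IsScalarTower.algebraMap_apply, G'.commutes, g.commutes]
      rfl
    · show Ideal.Quotient.mk I (G (algebraMap P _ (MvPolynomial.X i))) = g (z i)
      rw [show G (algebraMap P _ (MvPolynomial.X i)) = φ (MvPolynomial.X i) from RingHom.congr_fun hG _,
        show φ (MvPolynomial.X i) = a i + ε i from MvPolynomial.aeval_X _ _, map_add, ha,
        Ideal.Quotient.eq_zero_iff_mem.mpr (hε i).1, add_zero]

theorem etale_simpleRoots (f : Fin n → R[X]) : Algebra.Etale R (SimpleRoots R f) where
  formallyEtale := formallyEtale_simpleRoots R f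
  finitePresentation := finitePresentation_simpleRoots R f

end Groth.Agent.EtMultisectLib
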