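import Mathlib
import Groth.Agent.EtMultisectLib.Roots
import Groth.Agent.GenFree.Algebra

/-!
# Étale multisections of affine space are schematically dominant, Noetherian case
-/

set_option autoImplicit false
set_option linter.style.haveILetI false

universe u

open Polynomial TensorProduct IsLocalRing

namespace Groth.Agent.EtMultisectLib

variable {n : ℕ}

/-- `t` vanishes on all tuples of simple roots of monic polynomials over `R`. -/
def Vanishes {R C : Type u} [CommRing R] [CommRing C] (σ : R →+* C) (x : Fin n → C) (t : C) : Prop :=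
  ∀ f : Fin n → R[X], (∀ i, (f i).Monic) → ∀ (Q : Type u) [CommRing Q] (φ : C →+* Q),
    Test (φ.comp σ) f (φ ∘ x) → φ t = 0

theorem Vanishes.map {R C C' : Type u} [CommRing R] [CommRing C] [CommRing C'] {σ : R →+* C}
    {x : Fin n → C} {t : C} (h : Vanishes σ x t) (g : C →+* C') : Vanishes (g.comp σ) (g ∘ x) (g t) :=
  fun f hf Q _ φ hφ => h f hf Q (φ.comp g) hφ

/-- The values of simple roots in an algebraically closed field. -/
def GoodSet {R K : Type u} [CommRing R] [Field K] (ρ : R →+* K) : Set K :=
  {a | ∃ F : R[X], F.Monic ∧ F.eval₂ ρ a = 0 ∧ (derivative F).eval₂ ρ a ≠ 0}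

theorem infinite_goodSet {R k K : Type u} [CommRing R] [Field k] [Field K] [IsAlgClosed K]
    (ρ : R →+* k) (hρ : ∀ a : k, ∃ r s : R, ρ s ≠ 0 ∧ a * ρ s = ρ r) [Algebra k K] [Algebra.IsAlgebraic k K] :
    (GoodSet ((algebraMap k K).comp ρ)).Infinite := by
  classical
  by_cases hinf : (Set.range ρ).Infinite
  · refine (hinf.image (algebraMap k K).injective.injOn).mono ?_
    rintro _ ⟨_, ⟨r, rfl⟩, rfl⟩
    exact ⟨X - C r, monic_X_sub_C r, by simp, by simp⟩
  · rw [Set.not_infinite] at hinf
    haveI : Finite ρ.range := hinf.to_subtype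
    have hsurj : Function.Surjective ρ := by
      intro a
      obtain ⟨r, s, hs, hrs⟩ := hρ a
      have hfield := Finite.isField_of_domain ρ.range
      obtain ⟨⟨b, hb⟩, hinv⟩ := hfield.mul_inv_cancel (a := (⟨ρ s, s, rfl⟩ : ρ.range))
        (fun h => hs (congrArg Subtype.val h))
      obtain ⟨s', rfl⟩ := hb
      refine ⟨r * s', ?_⟩
      have : ρ s * ρ s' = 1 := congrArg Subtype.val hinv
      rw [map_mul, ← hrs, mul_assoc, this, mul_one]
    haveI : Finite k := by
      haveI : Finite (Set.range ρ) := hinf.to_subtype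
      rw [hsurj.range_eq] at this
      exact Finite.of_equiv _ (Equiv.Set.univ k)
    have : GoodSet ((algebraMap k K).comp ρ) = Set.univ := by
      refine Set.eq_univ_of_forall fun a => ?_
      have hint : IsIntegral k a := Algebra.IsIntegral.isIntegral a
      have hsep : IsSeparable k a := Algebra.IsSeparable.isSeparable k a
      obtain ⟨F, hF, -, hFm⟩ := lifts_and_degree_eq_and_monic
        (show minpoly k a ∈ Polynomial.lifts ρ from
          (Polynomial.lifts_iff_coeff_lifts _).mpr fun m => hsurj _) (minpoly.monic hint)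
      refine ⟨F, hFm, ?_, ?_⟩
      · rw [← eval₂_map, hF]; exact minpoly.aeval k a
      · rw [← eval₂_map, ← derivative_map, hF]
        exact hsep.aeval_derivative_ne_zero (minpoly.aeval k a)
    rw [this]
    exact Set.infinite_univ

/-- The case of a fibre. -/
theorem eq_zero_of_vanishes_field {R k : Type u} [CommRing R] [Field k] (ρ : R →+* k)
    (hρ : ∀ a : k, ∃ r s : R, ρ s ≠ 0 ∧ a * ρ s = ρ r)
    {C : Type u} [CommRing C] [Algebra (MvPolynomial (Fin n) k) C] [Module.Flat (MvPolynomial (Fin n) k) C]
    [Algebra.FiniteType (MvPolynomial (Fin n) k) C] (c : C)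
    (h : Vanishes (((algebraMap (MvPolynomial (Fin n) k) C).comp MvPolynomial.C).comp ρ)
      (fun i => algebraMap (MvPolynomial (Fin n) k) C (MvPolynomial.X i)) c) : c = 0 := by
  classical
  let P := MvPolynomial (Fin n) k
  let K := AlgebraicClosure k
  obtain ⟨h₀, -, hh₀, hfree, -⟩ := GenFree.exists_generic (R := P) (S := C) (M := C) (g := 1) one_ne_zero
  let L := Localization.Away h₀
  haveI : Module.Free L (L ⊗[P] C) := hfree
  let b := Module.Free.chooseBasis L (L ⊗[P] C)
  suffices hz : (1 : L) ⊗ₜ[P] c = 0 by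
    have hLinj : Function.Injective (algebraMap P L) :=
      IsLocalization.injective L (powers_le_nonZeroDivisors_of_noZeroDivisors hh₀)
    have hinj := Algebra.TensorProduct.includeRight_injective (R := P) (A := L) (B := C) hLinj
    exact hinj (hz.trans (map_zero _).symm)
  refine b.ext_elem fun j => ?_
  rw [map_zero, Finsupp.zero_apply]
  obtain ⟨N, p, hp⟩ := IsLocalization.Away.surj h₀ (b.repr ((1 : L) ⊗ₜ[P] c) j)
  suffices hp0 : p = 0 by
    rw [hp0, map_zero] at hp
    exact ((IsLocalization.Away.algebraMap_isUnit h₀).pow N).mul_left_eq_zero.mp hp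
  have hmapinj : Function.Injective (MvPolynomial.map (σ := Fin n) (algebraMap k K)) :=
    MvPolynomial.map_injective _ (algebraMap k K).injective
  have key : p * h₀ = 0 := by
    apply hmapinj
    rw [map_zero]
    refine MvPolynomial.funext_set (fun _ : Fin n => GoodSet ((algebraMap k K).comp ρ))
      (fun _ => infinite_goodSet ρ hρ) (fun α hα => ?_)
    rw [map_zero, MvPolynomial.eval_map, MvPolynomial.eval₂_mul]
    by_cases hh : MvPolynomial.eval₂ (algebraMap k K) α h₀ = 0
    · rw [hh, mul_zero]
    letI : Algebra P K := (MvPolynomial.eval₂Hom (algebraMap k K) α).toAlgebra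
    let e : L →+* K := IsLocalization.Away.lift h₀ (g := algebraMap P K) (IsUnit.mk0 _ hh)
    let lam : C →ₗ[P] L :=
      ((b.coord j).restrictScalars P).comp ((TensorProduct.mk P L C) 1)
    let eL : L →ₗ[P] K :=
      { toFun := e
        map_add' := map_add e
        map_smul' := fun q l => by
          rw [Algebra.smul_def, map_mul, IsLocalization.Away.lift_eq, RingHom.id_apply, Algebra.smul_def] }
    choose f hfm hf0 hf1 using fun i => hα i (Set.mem_univ i)
    have hK : (1 : K) ⊗ₜ[P] c = 0 := by
      refine h f hfm (K ⊗[P] C) (Algebra.TensorProduct.includeRight : C →ₐ[P] K ⊗[P] C).toRingHom ?_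
      have ht : Test ((algebraMap k K).comp ρ) f α := fun i => ⟨hf0 i, IsUnit.mk0 _ (hf1 i)⟩
      have ht' := ht.map (algebraMap K (K ⊗[P] C))
      have key : ∀ q : P, (1 : K) ⊗ₜ[P] algebraMap P C q = algebraMap P K q ⊗ₜ[P] (1 : C) := fun q => by
        rw [Algebra.algebraMap_eq_smul_one, Algebra.algebraMap_eq_smul_one, TensorProduct.tmul_smul,
          TensorProduct.smul_tmul']
      convert ht' using 1
      · ext r
        show (1 : K) ⊗ₜ[P] algebraMap P C (MvPolynomial.C (ρ r)) = algebraMap k K (ρ r) ⊗ₜ[P] (1 : C)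
        rw [key]
        congr 1
        exact MvPolynomial.eval₂Hom_C _ _ _
      · funext i
        show (1 : K) ⊗ₜ[P] algebraMap P C (MvPolynomial.X i) = α i ⊗ₜ[P] (1 : C)
        rw [key]
        congr 1
        exact MvPolynomial.eval₂Hom_X' _ _ _
    have h2 := congrArg (TensorProduct.lift ((LinearMap.mul P K).compl₂ (eL.comp lam))) hK
    rw [map_zero, TensorProduct.lift.tmul] at h2
    simp only [LinearMap.compl₂_apply, LinearMap.mul_apply', one_mul, LinearMap.comp_apply] at h2
    have h3 := congrArg e hp
    rw [map_mul, show e (b.repr ((1 : L) ⊗ₜ[P] c) j) = 0 from h2, zero_mul, IsLocalization.Away.lift_eq] at h3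
    rw [show MvPolynomial.eval₂ (algebraMap k K) α p = 0 from h3.symm, zero_mul]
  exact (mul_eq_zero.mp key).resolve_right hh₀

/-- Coefficients of independent elements of `m ^ j / m ^ (j + 1)` in a flat module. -/
theorem mem_smul_of_sum_eq_zero {R M : Type u} [CommRing R] [IsLocalRing R] [AddCommGroup M] [Module R M]
    [Module.Flat R M] {N : ℕ} (e : Fin N → R)
    (hind : ∀ a : Fin N → R, ∑ i, a i * e i = 0 → ∀ i, a i ∈ maximalIdeal R)
    (x : Fin N → M) (hx : ∑ i, e i • x i = 0) (i : Fin N) : x i ∈ maximalIdeal R • (⊤ : Submodule R M) := by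
  obtain ⟨κ, a, y, hxy, ha⟩ := Module.Flat.isTrivialRelation_of_sum_smul_eq_zero hx
  rw [hxy i]
  refine Submodule.sum_mem _ fun j _ => Submodule.smul_mem_smul ?_ Submodule.mem_top
  exact hind (fun l => a l j) (by simpa [mul_comm] using ha j) i

/-- Minimal generators of an ideal of a Noetherian local ring. -/
theorem exists_minimal_generators {R : Type u} [CommRing R] [IsLocalRing R] [IsNoetherianRing R] (I : Ideal R) :
    ∃ (N : ℕ) (e : Fin N → R), Ideal.span (Set.range e) = I ∧
      ∀ a : Fin N → R, ∑ i, a i * e i = 0 → ∀ i, a i ∈ maximalIdeal R := by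
  classical
  obtain ⟨N₀, e₀, he₀⟩ := Submodule.fg_iff_exists_fin_generating_family.mp (IsNoetherian.noetherian I)
  have hex : ∃ N, ∃ e : Fin N → R, Ideal.span (Set.range e) = I := ⟨N₀, e₀, he₀⟩
  obtain ⟨e, he⟩ := Nat.find_spec hex
  refine ⟨_, e, he, fun a ha i => ?_⟩
  by_contra hai
  rw [mem_maximalIdeal, mem_nonunits_iff, not_not] at hai
  obtain ⟨m, hm⟩ : ∃ m, Nat.find hex = m + 1 := ⟨_, (Nat.succ_pred_eq_of_pos i.pos).symm⟩
  refine Nat.find_min hex (show m < Nat.find hex by omega) ⟨fun l => e (Fin.cast hm.symm (Fin.succAbove (Fin.cast hm i) l)), ?_⟩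
  conv_rhs => rw [← he]
  refine le_antisymm (Ideal.span_le.mpr ?_) (Ideal.span_le.mpr ?_)
  · rintro _ ⟨l, rfl⟩
    exact Ideal.subset_span ⟨_, rfl⟩
  · have hmem : ∀ l, l ≠ i → e l ∈ Ideal.span
        (Set.range fun l => e (Fin.cast hm.symm (Fin.succAbove (Fin.cast hm i) l))) := fun l hl => by
      obtain ⟨l', hl'⟩ := Fin.exists_succAbove_eq (x := Fin.cast hm l) (y := Fin.cast hm i)
        (fun h => hl (Fin.cast_injective hm h))
      refine Ideal.subset_span ⟨l', ?_⟩
      simp only [hl']
      rfl
    rintro _ ⟨l, rfl⟩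
    by_cases hl : l = i
    · subst hl
      have h1 : a l * e l = -∑ j ∈ Finset.univ.erase l, a j * e j := by
        rw [eq_neg_iff_add_eq_zero, Finset.add_sum_erase _ (fun j => a j * e j) (Finset.mem_univ l), ha]
      refine (Ideal.unit_mul_mem_iff_mem _ hai).mp ?_
      rw [h1]
      exact neg_mem (Ideal.sum_mem _ fun j hj => Ideal.mul_mem_left _ _ (hmem j (Finset.ne_of_mem_erase hj)))
    · exact hmem l hl

/-- The kernel of the map into a base change along a surjection. -/
theorem ker_includeRight_le {P P' C : Type u} [CommRing P] [CommRing P'] [CommRing C] [Algebra P P'] [Algebra P C]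
    (hs : Function.Surjective (algebraMap P P')) :
    RingHom.ker (Algebra.TensorProduct.includeRight : C →ₐ[P] P' ⊗[P] C).toRingHom ≤
      (RingHom.ker (algebraMap P P')).map (algebraMap P C) := by
  let J := (RingHom.ker (algebraMap P P')).map (algebraMap P C)
  let π' : P' →+* C ⧸ J := (algebraMap P P').liftOfSurjective hs
    ⟨(Ideal.Quotient.mk J).comp (algebraMap P C), fun x hx =>
      Ideal.Quotient.eq_zero_iff_mem.mpr (Ideal.mem_map_of_mem _ hx)⟩
  let π'' : P' →ₐ[P] C ⧸ J :=
    { π' with commutes' := fun x => RingHom.liftOfRightInverse_comp_apply _ _ _ _ x }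
  let inv : P' ⊗[P] C →ₐ[P] C ⧸ J :=
    Algebra.TensorProduct.lift π'' (Ideal.Quotient.mkₐ P J) (fun _ _ => Commute.all _ _)
  intro c hc
  have hc0 : (1 : P') ⊗ₜ[P] c = 0 := hc
  have h1 : inv ((1 : P') ⊗ₜ[P] c) = Ideal.Quotient.mk J c := by
    erw [Algebra.TensorProduct.lift_tmul]
    rw [map_one, one_mul]
    rfl
  rw [hc0, map_zero] at h1
  exact Ideal.Quotient.eq_zero_iff_mem.mp h1.symm

/-- Krull's intersection theorem seen in a local ring. -/
theorem apply_eq_zero_of_mem_pow {A B : Type u} [CommRing A] [IsNoetherianRing A] [CommRing B] [IsLocalRing B]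
    (G : A →+* B) (I : Ideal A) (hI : I ≤ (maximalIdeal B).comap G) (t : A) (h : ∀ j : ℕ, t ∈ I ^ j) : G t = 0 := by
  obtain ⟨⟨r, hr⟩, hrt⟩ := (Ideal.mem_iInf_smul_pow_eq_bot_iff (M := A) I t).mp (by
    rw [Submodule.mem_iInf]
    intro j
    rw [Ideal.smul_eq_mul, Ideal.mul_top]
    exact h j)
  have h3 := congrArg G hrt
  simp only [smul_eq_mul, map_mul] at h3
  have hunit : IsUnit (1 - G r) := by
    by_contra hnu
    exact (maximalIdeal.isMaximal B).ne_top ((Ideal.eq_top_iff_one _).mpr
      (sub_add_cancel (1 : B) (G r) ▸ Ideal.add_mem _ hnu (hI hr)))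
  exact hunit.mul_right_eq_zero.mp (by linear_combination -h3)

set_option maxHeartbeats 1600000 in
/-- Over a Noetherian local base, a vanishing element lies in all powers of the maximal ideal. -/
theorem mem_pow_of_vanishes {R₀ R : Type u} [CommRing R₀] [CommRing R] [IsLocalRing R] [IsNoetherianRing R]
    (ρ : R₀ →+* R) (hρ : ∀ a : ResidueField R, ∃ r s, residue R (ρ s) ≠ 0 ∧ a * residue R (ρ s) = residue R (ρ r))
    {C : Type u} [CommRing C] [Algebra (MvPolynomial (Fin n) R) C] [Algebra R C]
    [IsScalarTower R (MvPolynomial (Fin n) R) C] [Module.Flat (MvPolynomial (Fin n) R) C]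
    [Algebra.FiniteType (MvPolynomial (Fin n) R) C] (t : C)
    (h : Vanishes ((algebraMap R C).comp ρ)
      (fun i => algebraMap (MvPolynomial (Fin n) R) C (MvPolynomial.X i)) t) (j : ℕ) :
    t ∈ (maximalIdeal R ^ j).map (algebraMap R C) := by
  induction j with
  | zero => rw [pow_zero, Ideal.one_eq_top, Ideal.map_top]; exact Submodule.mem_top
  | succ j ih =>
    obtain ⟨N, e, he, hind⟩ := exists_minimal_generators (maximalIdeal R ^ j)
    rw [← he, Ideal.map_span, ← Set.range_comp, Ideal.mem_span_range_iff_exists_fun] at ih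
    obtain ⟨c, hc⟩ := ih
    let P := MvPolynomial (Fin n) R
    let k := ResidueField R
    let Pb := MvPolynomial (Fin n) k
    letI : Algebra P Pb := (MvPolynomial.map (residue R)).toAlgebra
    let Cb := Pb ⊗[P] C
    haveI : Algebra.FiniteType Pb Cb := inferInstance
    let ι : C →+* Cb := (Algebra.TensorProduct.includeRight : C →ₐ[P] Cb).toRingHom
    have hιC : ∀ q : P, ι (algebraMap P C q) = algebraMap Pb Cb (algebraMap P Pb q) := fun q => by
      show (1 : Pb) ⊗ₜ[P] algebraMap P C q = algebraMap P Pb q ⊗ₜ[P] (1 : C)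
      rw [Algebra.algebraMap_eq_smul_one, Algebra.algebraMap_eq_smul_one, TensorProduct.tmul_smul,
        TensorProduct.smul_tmul']
    have hιR : ∀ r : R, ι (algebraMap R C r) = algebraMap Pb Cb (MvPolynomial.C (residue R r)) := fun r => by
      rw [IsScalarTower.algebraMap_apply R P C, hιC, MvPolynomial.algebraMap_eq,
        show algebraMap P Pb (MvPolynomial.C r) = MvPolynomial.C (residue R r) from MvPolynomial.map_C _ _]
    have hm : ∀ i, c i ∈ (maximalIdeal R).map (algebraMap R C) := by
      intro i
      suffices hz : ι (c i) = 0 by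
        have h1 := ker_includeRight_le (P' := Pb) (C := C)
          (MvPolynomial.map_surjective _ residue_surjective) hz
        rw [show RingHom.ker (algebraMap P Pb) = (RingHom.ker (residue R)).map MvPolynomial.C from
          MvPolynomial.ker_map _, IsLocalRing.ker_residue, Ideal.map_map] at h1
        rwa [IsScalarTower.algebraMap_eq R P C]
      refine eq_zero_of_vanishes_field (n := n) ((residue R).comp ρ) hρ _ ?_
      intro f hf Q _ φ hφ
      let F : Fin n → R[X] := fun i => (f i).map ρ
      let Qf := SimpleRoots R F ⊗[P] C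
      haveI := etale_simpleRoots R F
      haveI : Module.Flat (SimpleRoots R F) Qf := inferInstance
      haveI : Module.Flat R Qf := Module.Flat.trans R (SimpleRoots R F) Qf
      let ψ : C →+* Qf := (Algebra.TensorProduct.includeRight : C →ₐ[P] Qf).toRingHom
      have hψC : ∀ q : P, ψ (algebraMap P C q) = algebraMap (SimpleRoots R F) Qf (algebraMap P _ q) := fun q => by
        show (1 : SimpleRoots R F) ⊗ₜ[P] algebraMap P C q = algebraMap P (SimpleRoots R F) q ⊗ₜ[P] (1 : C)
        rw [Algebra.algebraMap_eq_smul_one, Algebra.algebraMap_eq_smul_one, TensorProduct.tmul_smul,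
          TensorProduct.smul_tmul']
      have hψR : ∀ r : R, ψ (algebraMap R C r) = algebraMap R Qf r := fun r => by
        rw [IsScalarTower.algebraMap_apply R P C, hψC, ← IsScalarTower.algebraMap_apply R P,
          ← IsScalarTower.algebraMap_apply R (SimpleRoots R F)]
      have hψt : ψ t = 0 := by
        refine h f hf Qf ψ fun i => ?_
        have h2 := ((test_simpleRoots R F).map (algebraMap (SimpleRoots R F) Qf)) i
        rw [← IsScalarTower.algebraMap_eq] at h2
        simp only [F, derivative_map, eval₂_map] at h2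
        rw [← RingHom.comp_assoc, show ψ.comp (algebraMap R C) = algebraMap R Qf from RingHom.ext hψR]
        simp only [Function.comp_apply] at h2 ⊢
        rw [show ψ (algebraMap (MvPolynomial (Fin n) R) C (MvPolynomial.X i)) = _ from hψC _]
        exact h2
      have hsum : ∑ i, e i • ψ (c i) = 0 := by
        rw [← hψt, ← hc, map_sum]
        refine Finset.sum_congr rfl fun i _ => ?_
        rw [map_mul, Function.comp_apply, hψR]
        rw [mul_comm]
        exact Algebra.smul_def (A := Qf) (e i) (ψ (c i))
      have h3 := mem_smul_of_sum_eq_zero e hind (fun i => ψ (c i)) hsum i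
      rw [Ideal.smul_top_eq_map, Submodule.restrictScalars_mem] at h3
      let α : P →+* Q := (φ.comp ι).comp (algebraMap P C)
      have hα : Test (α.comp MvPolynomial.C) F (fun i => α (MvPolynomial.X i)) := by
        intro i
        have h4 := hφ i
        simp only [F, derivative_map, eval₂_map, Function.comp_apply] at h4 ⊢
        have e1 : (α.comp MvPolynomial.C).comp ρ = φ.comp (((algebraMap Pb Cb).comp MvPolynomial.C).comp ((residue R).comp ρ)) := by
          ext r
          simp only [α, RingHom.comp_apply, hιC]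
          congr 2
          exact MvPolynomial.map_C _ _
        have e2 : α (MvPolynomial.X i) = φ (algebraMap Pb Cb (MvPolynomial.X i)) := by
          simp only [α, RingHom.comp_apply, hιC]
          congr 2
          exact MvPolynomial.map_X _ _
        rw [e1, e2]
        exact h4
      obtain ⟨g, hg⟩ := exists_hom R F α hα
      letI : Algebra P Q := α.toAlgebra
      let g' : SimpleRoots R F →ₐ[P] Q := { g with commutes' := fun q => RingHom.congr_fun hg q }
      let φ' : C →ₐ[P] Q := { φ.comp ι with commutes' := fun q => rfl }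
      let G : Qf →ₐ[P] Q := Algebra.TensorProduct.lift g' φ' (fun _ _ => Commute.all _ _)
      have hG : ∀ y, G (ψ y) = φ (ι y) := fun y => by
        erw [Algebra.TensorProduct.lift_tmul]
        rw [map_one, one_mul]
        rfl
      have h5 : (maximalIdeal R).map (algebraMap R Qf) ≤ RingHom.ker G.toRingHom := by
        rw [Ideal.map_le_iff_le_comap]
        intro r hr
        show G (algebraMap R Qf r) = 0
        rw [← hψR, hG, hιR, (residue_eq_zero_iff r).mpr hr, map_zero, map_zero, map_zero]
      rw [← hG]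
      exact h5 h3
    rw [← hc, pow_succ, Ideal.map_mul]
    refine Ideal.sum_mem _ fun i _ => ?_
    rw [mul_comm (c i)]
    refine Ideal.mul_mem_mul (Ideal.mem_map_of_mem _ ?_) (hm i)
    rw [← he]
    exact Ideal.subset_span ⟨i, rfl⟩

set_option maxHeartbeats 1600000 in
/-- The Noetherian case. -/
theorem eq_zero_of_vanishes_noetherian {R C : Type u} [CommRing R] [IsNoetherianRing R] [CommRing C]
    [Algebra (MvPolynomial (Fin n) R) C] [Algebra R C] [IsScalarTower R (MvPolynomial (Fin n) R) C]
    [Module.Flat (MvPolynomial (Fin n) R) C] [Algebra.FiniteType (MvPolynomial (Fin n) R) C] (t : C)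
    (h : Vanishes (algebraMap R C) (fun i => algebraMap (MvPolynomial (Fin n) R) C (MvPolynomial.X i)) t) :
    t = 0 := by
  classical
  haveI : IsNoetherianRing C := Algebra.FiniteType.isNoetherianRing (MvPolynomial (Fin n) R) C
  refine Module.eq_zero_of_localization_maximal (R := C) (M := C)
    (fun P _ => Localization.AtPrime P) (fun P _ => Algebra.linearMap C (Localization.AtPrime P)) t ?_
  intro q hq
  let p := (q.comap (algebraMap R C))
  haveI : p.IsPrime := Ideal.IsPrime.comap _
  let Rp := Localization.AtPrime p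
  let Cq := Localization.AtPrime q
  let P := MvPolynomial (Fin n) R
  let P' := MvPolynomial (Fin n) Rp
  letI : Algebra P P' := (MvPolynomial.map (algebraMap R Rp)).toAlgebra
  let C' := P' ⊗[P] C
  haveI : IsNoetherianRing C' := Algebra.FiniteType.isNoetherianRing P' C'
  let ι : C →+* C' := (Algebra.TensorProduct.includeRight : C →ₐ[P] C').toRingHom
  have hιC : ∀ a : P, ι (algebraMap P C a) = algebraMap P' C' (algebraMap P P' a) := fun a => by
    show (1 : P') ⊗ₜ[P] algebraMap P C a = algebraMap P P' a ⊗ₜ[P] (1 : C)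
    rw [Algebra.algebraMap_eq_smul_one, Algebra.algebraMap_eq_smul_one, TensorProduct.tmul_smul,
      TensorProduct.smul_tmul']
  have hιR : ∀ r : R, ι (algebraMap R C r) = algebraMap Rp C' (algebraMap R Rp r) := fun r => by
    rw [IsScalarTower.algebraMap_apply R P C, hιC, IsScalarTower.algebraMap_apply Rp P' C',
      MvPolynomial.algebraMap_eq, MvPolynomial.algebraMap_eq,
      show algebraMap P P' (MvPolynomial.C r) = MvPolynomial.C (algebraMap R Rp r) from MvPolynomial.map_C _ _]
  have hv : Vanishes ((algebraMap Rp C').comp (algebraMap R Rp))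
      (fun i => algebraMap P' C' (MvPolynomial.X i)) (ι t) := by
    have h1 := Vanishes.map (C' := C') h ι
    rw [show ι.comp (algebraMap R C) = (algebraMap Rp C').comp (algebraMap R Rp) from RingHom.ext hιR] at h1
    convert h1 using 1
    funext i
    rw [Function.comp_apply, hιC]
    congr 1
    exact (MvPolynomial.map_X _ _).symm
  have hρ : ∀ a : ResidueField Rp, ∃ r s, residue Rp (algebraMap R Rp s) ≠ 0 ∧
      a * residue Rp (algebraMap R Rp s) = residue Rp (algebraMap R Rp r) := fun a => by
    obtain ⟨a, rfl⟩ := residue_surjective a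
    obtain ⟨⟨r, s⟩, hrs⟩ := IsLocalization.surj p.primeCompl a
    exact ⟨r, s.1, (residue_ne_zero_iff_isUnit _).mpr (IsLocalization.map_units Rp s),
      by rw [← map_mul]; exact congrArg _ hrs⟩
  have hmem := mem_pow_of_vanishes (algebraMap R Rp) hρ (ι t) hv
  let I := (maximalIdeal Rp).map (algebraMap Rp C')
  have hu : ∀ s : p.primeCompl, IsUnit (((algebraMap C Cq).comp (algebraMap R C)) s) := fun s =>
    IsLocalization.map_units Cq (⟨algebraMap R C s, s.2⟩ : q.primeCompl)
  let γ : P' →+* Cq := MvPolynomial.eval₂Hom (IsLocalization.lift (S := Rp) hu)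
    (fun i => algebraMap C Cq (algebraMap P C (MvPolynomial.X i)))
  have hγ : ∀ a : P, γ (algebraMap P P' a) = algebraMap C Cq (algebraMap P C a) := fun a => by
    have : γ.comp (algebraMap P P') = (algebraMap C Cq).comp (algebraMap P C) := by
      refine MvPolynomial.ringHom_ext (fun r => ?_) fun i => ?_
      · show γ (MvPolynomial.map _ (MvPolynomial.C r)) = algebraMap C Cq (algebraMap P C (algebraMap R P r))
        rw [MvPolynomial.map_C, MvPolynomial.eval₂Hom_C, IsLocalization.lift_eq,
          ← IsScalarTower.algebraMap_apply R P C]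
        rfl
      · show γ (MvPolynomial.map _ (MvPolynomial.X i)) = _
        rw [MvPolynomial.map_X, MvPolynomial.eval₂Hom_X']
        rfl
    exact RingHom.congr_fun this a
  let γ' : P' →ₐ[P] Cq :=
    { γ with commutes' := fun a => (hγ a).trans (IsScalarTower.algebraMap_apply P C Cq a).symm }
  let a' : C →ₐ[P] Cq := IsScalarTower.toAlgHom P C Cq
  let G : C' →ₐ[P] Cq := Algebra.TensorProduct.lift γ' a' (fun _ _ => Commute.all _ _)
  have hG : ∀ y, G (ι y) = algebraMap C Cq y := fun y => by
    erw [Algebra.TensorProduct.lift_tmul]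
    rw [map_one, one_mul]
    rfl
  have hle : I ≤ (maximalIdeal Cq).comap G.toRingHom := by
    rw [Ideal.map_le_iff_le_comap]
    intro a ha
    obtain ⟨⟨b, s⟩, hbs⟩ := IsLocalization.surj p.primeCompl a
    have hb : b ∈ p := (IsLocalization.AtPrime.to_map_mem_maximal_iff Rp p b).mp
      (by rw [← hbs]; exact Ideal.mul_mem_right _ _ ha)
    have h1 : G (algebraMap Rp C' (algebraMap R Rp b)) ∈ maximalIdeal Cq := by
      rw [← hιR, hG]
      exact (IsLocalization.AtPrime.to_map_mem_maximal_iff Cq q _).mpr hb
    have h2 : IsUnit (G (algebraMap Rp C' (algebraMap R Rp (s : R)))) := by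
      rw [← hιR, hG]; exact hu s
    rw [← hbs, map_mul, map_mul] at h1
    exact (Ideal.mul_unit_mem_iff_mem _ h2).mp h1
  show algebraMap C Cq t = 0
  rw [← hG]
  exact apply_eq_zero_of_mem_pow G.toRingHom I hle (ι t) fun j => by
    rw [← Ideal.map_pow]
    exact hmem j

end Groth.Agent.EtMultisectLib
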