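import Mathlib
import Groth.Agent.EtMultisectLib.Vanish
import Groth.Agent.FppfSrc.FlatModel

/-!
# Étale multisections of affine space are schematically dominant
-/

set_option autoImplicit false
set_option linter.style.haveILetI false

universe u

open Polynomial TensorProduct

namespace Groth.Agent.EtMultisectLib

variable {n : ℕ}

/-- An element of a base change whose coefficients come from an intermediate ring. -/
theorem exists_intermediate {B P₀ P C₀ C : Type u} [CommRing B] [CommRing P₀] [CommRing P] [CommRing C₀]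
    [CommRing C] [Algebra B P₀] [Algebra P₀ P] [Algebra B P] [IsScalarTower B P₀ P] [Algebra B C₀] [Algebra P C]
    (ε : C ≃ₐ[P] P ⊗[B] C₀) (t : C) (s : Finset (P × C₀)) (hs : ε t = ∑ x ∈ s, x.1 ⊗ₜ[B] x.2)
    (h : ∀ x ∈ s, x.1 ∈ Set.range (algebraMap P₀ P)) :
    ∃ (ε' : C ≃ₐ[P] P ⊗[P₀] (P₀ ⊗[B] C₀)) (t₁ : P₀ ⊗[B] C₀), ε' t = 1 ⊗ₜ[P₀] t₁ := by
  let c := Algebra.TensorProduct.cancelBaseChange B P₀ P P C₀
  choose p hp using fun x : s => h x.1 x.2
  refine ⟨ε.trans c.symm, ∑ x : s, p x ⊗ₜ[B] x.1.2, c.injective ?_⟩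
  rw [AlgEquiv.trans_apply, AlgEquiv.apply_symm_apply, hs, TensorProduct.tmul_sum, map_sum,
    ← Finset.sum_coe_sort s (fun x => x.1 ⊗ₜ[B] x.2)]
  refine Finset.sum_congr rfl fun x _ => ?_
  rw [Algebra.TensorProduct.cancelBaseChange_tmul, Algebra.smul_def, mul_one, hp]

/-- Maps out of a base change detect vanishing. -/
theorem apply_eq_zero_of_vanishes_baseChange {R₀ R C₁ : Type u} [CommRing R₀] [CommRing R] [Algebra R₀ R]
    [Algebra (MvPolynomial (Fin n) R₀) (MvPolynomial (Fin n) R)]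
    (hmap : algebraMap (MvPolynomial (Fin n) R₀) (MvPolynomial (Fin n) R) = MvPolynomial.map (algebraMap R₀ R))
    [CommRing C₁] [Algebra (MvPolynomial (Fin n) R₀) C₁] (t₁ : C₁)
    (h : Vanishes
      ((algebraMap (MvPolynomial (Fin n) R) (MvPolynomial (Fin n) R ⊗[MvPolynomial (Fin n) R₀] C₁)).comp MvPolynomial.C)
      (fun i => algebraMap (MvPolynomial (Fin n) R) (MvPolynomial (Fin n) R ⊗[MvPolynomial (Fin n) R₀] C₁)
        (MvPolynomial.X i)) (1 ⊗ₜ t₁))
    {f : Fin n → R₀[X]} (hf : ∀ i, (f i).Monic) {Q : Type u} [CommRing Q] (θ : C₁ →+* Q) (ρ : R →+* Q)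
    (hρ : ρ.comp (algebraMap R₀ R) = θ.comp ((algebraMap (MvPolynomial (Fin n) R₀) C₁).comp MvPolynomial.C))
    (ht : Test (ρ.comp (algebraMap R₀ R)) f
      (fun i => θ (algebraMap (MvPolynomial (Fin n) R₀) C₁ (MvPolynomial.X i)))) :
    θ t₁ = 0 := by
  let P₀ := MvPolynomial (Fin n) R₀
  let P := MvPolynomial (Fin n) R
  let β : P →+* Q := MvPolynomial.eval₂Hom ρ (fun i => θ (algebraMap P₀ C₁ (MvPolynomial.X i)))
  have hθ : ∀ q : P₀, β (algebraMap P₀ P q) = θ (algebraMap P₀ C₁ q) := fun q => by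
    have h1 : β.comp (MvPolynomial.map (algebraMap R₀ R)) = θ.comp (algebraMap P₀ C₁) := by
      refine MvPolynomial.ringHom_ext (fun r => ?_) fun i => ?_
      · rw [RingHom.comp_apply, MvPolynomial.map_C, MvPolynomial.eval₂Hom_C]
        exact RingHom.congr_fun hρ r
      · rw [RingHom.comp_apply, MvPolynomial.map_X, MvPolynomial.eval₂Hom_X']
        rfl
    rw [show algebraMap P₀ P q = MvPolynomial.map (algebraMap R₀ R) q from RingHom.congr_fun hmap q]
    exact RingHom.congr_fun h1 q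
  letI : Algebra P₀ Q := (θ.comp (algebraMap P₀ C₁)).toAlgebra
  let β' : P →ₐ[P₀] Q := { β with commutes' := hθ }
  let θ' : C₁ →ₐ[P₀] Q := { θ with commutes' := fun _ => rfl }
  let Ψ : P ⊗[P₀] C₁ →ₐ[P₀] Q := Algebra.TensorProduct.lift β' θ' (fun _ _ => Commute.all _ _)
  have hΨP : ∀ q : P, Ψ (algebraMap P (P ⊗[P₀] C₁) q) = β q := fun q => by
    erw [Algebra.TensorProduct.lift_tmul]
    rw [map_one, mul_one]
    rfl
  have hΨt : Ψ (1 ⊗ₜ t₁) = θ t₁ := by
    erw [Algebra.TensorProduct.lift_tmul]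
    rw [map_one, one_mul]
    rfl
  rw [← hΨt]
  refine h (fun i => (f i).map (algebraMap R₀ R)) (fun i => (hf i).map _) Q Ψ.toRingHom fun i => ?_
  have e1 : Ψ.toRingHom.comp ((algebraMap P (P ⊗[P₀] C₁)).comp MvPolynomial.C) = ρ :=
    RingHom.ext fun r => (hΨP _).trans (MvPolynomial.eval₂Hom_C _ _ _)
  have e2 : (Ψ.toRingHom ∘ fun i => algebraMap P (P ⊗[P₀] C₁) (MvPolynomial.X i)) i =
      θ (algebraMap P₀ C₁ (MvPolynomial.X i)) :=
    (hΨP _).trans (MvPolynomial.eval₂Hom_X' _ _ _)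
  erw [e1, e2]
  simp only [derivative_map, eval₂_map]
  exact ht i

/-- Descent to a Noetherian base. -/
theorem eq_zero_of_vanishes_baseChange {R₀ R C₁ : Type u} [CommRing R₀] [IsNoetherianRing R₀] [CommRing R]
    [Algebra R₀ R] (hinj : Function.Injective (algebraMap R₀ R))
    [Algebra (MvPolynomial (Fin n) R₀) (MvPolynomial (Fin n) R)]
    (hmap : algebraMap (MvPolynomial (Fin n) R₀) (MvPolynomial (Fin n) R) = MvPolynomial.map (algebraMap R₀ R))
    [CommRing C₁] [Algebra (MvPolynomial (Fin n) R₀) C₁] [Algebra R₀ C₁]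
    [IsScalarTower R₀ (MvPolynomial (Fin n) R₀) C₁] [Module.Flat (MvPolynomial (Fin n) R₀) C₁]
    [Algebra.FiniteType (MvPolynomial (Fin n) R₀) C₁] (t₁ : C₁)
    (h : Vanishes
      ((algebraMap (MvPolynomial (Fin n) R) (MvPolynomial (Fin n) R ⊗[MvPolynomial (Fin n) R₀] C₁)).comp MvPolynomial.C)
      (fun i => algebraMap (MvPolynomial (Fin n) R) (MvPolynomial (Fin n) R ⊗[MvPolynomial (Fin n) R₀] C₁)
        (MvPolynomial.X i)) (1 ⊗ₜ t₁)) :
    t₁ = 0 := by
  refine eq_zero_of_vanishes_noetherian (n := n) (R := R₀) t₁ ?_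
  intro f hf Q' _ φ hφ
  let P₀ := MvPolynomial (Fin n) R₀
  let Qf := SimpleRoots R₀ f ⊗[P₀] C₁
  haveI := etale_simpleRoots R₀ f
  haveI : Module.Flat R₀ Qf := Module.Flat.trans R₀ (SimpleRoots R₀ f) Qf
  let ψ₁ : C₁ →+* Qf := (Algebra.TensorProduct.includeRight : C₁ →ₐ[P₀] Qf).toRingHom
  suffices hu : ψ₁ t₁ = 0 by
    let α : P₀ →+* Q' := φ.comp (algebraMap P₀ C₁)
    have hα : Test (α.comp MvPolynomial.C) f (fun i => α (MvPolynomial.X i)) := by
      rw [RingHom.comp_assoc, ← MvPolynomial.algebraMap_eq,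
        ← IsScalarTower.algebraMap_eq R₀ (MvPolynomial (Fin n) R₀) C₁]
      exact hφ
    obtain ⟨g, hg⟩ := exists_hom R₀ f α hα
    letI : Algebra P₀ Q' := α.toAlgebra
    let g' : SimpleRoots R₀ f →ₐ[P₀] Q' := { g with commutes' := fun q => RingHom.congr_fun hg q }
    let φ' : C₁ →ₐ[P₀] Q' := { φ with commutes' := fun q => rfl }
    have h1 := congrArg (Algebra.TensorProduct.lift g' φ' (fun _ _ => Commute.all _ _)) hu
    rw [map_zero] at h1
    erw [Algebra.TensorProduct.lift_tmul] at h1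
    rw [map_one, one_mul] at h1
    exact h1
  apply Algebra.TensorProduct.includeRight_injective (R := R₀) (A := R) (B := Qf) hinj
  rw [map_zero]
  have hψC : ψ₁.comp ((algebraMap P₀ C₁).comp MvPolynomial.C) = algebraMap R₀ Qf := RingHom.ext fun r => by
    show ψ₁ (algebraMap P₀ C₁ (algebraMap R₀ P₀ r)) = _
    rw [show ψ₁ (algebraMap P₀ C₁ (algebraMap R₀ P₀ r)) = algebraMap P₀ Qf (algebraMap R₀ P₀ r) from
      AlgHom.commutes (Algebra.TensorProduct.includeRight : C₁ →ₐ[P₀] Qf) _, ← IsScalarTower.algebraMap_apply R₀ P₀ Qf]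
  refine apply_eq_zero_of_vanishes_baseChange (n := n) hmap t₁ h hf
    (Q := R ⊗[R₀] Qf) (RingHom.comp (Algebra.TensorProduct.includeRight : Qf →ₐ[R₀] R ⊗[R₀] Qf).toRingHom ψ₁)
    Algebra.TensorProduct.includeLeftRingHom ?_ ?_
  · rw [RingHom.comp_assoc, hψC]
    exact RingHom.ext fun r =>
      (AlgHom.commutes (Algebra.TensorProduct.includeRight : Qf →ₐ[R₀] R ⊗[R₀] Qf) r).symm
  · have h2 := ((test_simpleRoots R₀ f).map (algebraMap (SimpleRoots R₀ f) Qf))
    rw [← IsScalarTower.algebraMap_eq] at h2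
    intro i
    have h3 := h2 i
    have e : ψ₁ (algebraMap P₀ C₁ (MvPolynomial.X i)) =
        algebraMap (SimpleRoots R₀ f) Qf (algebraMap P₀ _ (MvPolynomial.X i)) := by
      rw [show ψ₁ (algebraMap P₀ C₁ (MvPolynomial.X i)) = algebraMap P₀ Qf (MvPolynomial.X i) from
        AlgHom.commutes (Algebra.TensorProduct.includeRight : C₁ →ₐ[P₀] Qf) _,
        ← IsScalarTower.algebraMap_apply P₀ (SimpleRoots R₀ f) Qf]
    simp only [Function.comp_apply] at h3
    have e' : Algebra.TensorProduct.includeLeftRingHom.comp (algebraMap R₀ R) =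
        (Algebra.TensorProduct.includeRight : Qf →ₐ[R₀] R ⊗[R₀] Qf).toRingHom.comp (algebraMap R₀ Qf) :=
      RingHom.ext fun r => (AlgHom.commutes (Algebra.TensorProduct.includeRight : Qf →ₐ[R₀] R ⊗[R₀] Qf) r).symm
    simp only
    rw [e']
    erw [RingHom.comp_apply]
    rw [e, ← hom_eval₂, ← hom_eval₂, h3.1, map_zero]
    exact ⟨rfl, h3.2.map _⟩

set_option maxHeartbeats 1600000 in
set_option synthInstance.maxHeartbeats 200000 in
/-- An element of a flat finitely presented algebra over a polynomial ring which vanishes on all tuples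
of simple roots of monic polynomials is zero. -/
theorem eq_zero_of_vanishes {R C : Type u} [CommRing R] [CommRing C]
    [Algebra (MvPolynomial (Fin n) R) C] [Algebra R C] [IsScalarTower R (MvPolynomial (Fin n) R) C]
    [Module.Flat (MvPolynomial (Fin n) R) C] [Algebra.FinitePresentation (MvPolynomial (Fin n) R) C] (t : C)
    (h : Vanishes (algebraMap R C) (fun i => algebraMap (MvPolynomial (Fin n) R) C (MvPolynomial.X i)) t) :
    t = 0 := by
  classical
  obtain ⟨B₁, C₀, _, _, hB₁, hfp₀, hflat₀, ⟨ε⟩⟩ := FppfSrc.exists_flat_model (MvPolynomial (Fin n) R) C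
  obtain ⟨s, hs⟩ := TensorProduct.exists_finset (ε t)
  obtain ⟨G, hG⟩ := hB₁
  let coeffs : Finset R :=
    (G ∪ s.image Prod.fst).biUnion fun q => q.support.image fun m => MvPolynomial.coeff m q
  let R₀ : Subalgebra ℤ R := Algebra.adjoin ℤ (coeffs : Set R)
  haveI : IsNoetherianRing R₀ := isNoetherianRing_of_fg (Subalgebra.fg_adjoin_finset _)
  let m : MvPolynomial (Fin n) R₀ →+* MvPolynomial (Fin n) R := MvPolynomial.map (algebraMap R₀ R)
  have hm : Function.Injective m := MvPolynomial.map_injective _ Subtype.val_injective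
  have hrange : ∀ q ∈ G ∪ s.image Prod.fst, q ∈ m.range := fun q hq => by
    obtain ⟨q₁, hq₁⟩ := FppfSrc.exists_map_eq' R₀ q fun μ => by
      by_cases h0 : MvPolynomial.coeff μ q = 0
      · rw [h0]; exact R₀.zero_mem
      · exact Algebra.subset_adjoin (Finset.mem_biUnion.mpr
          ⟨q, hq, Finset.mem_image_of_mem _ (MvPolynomial.mem_support_iff.mpr h0)⟩)
    exact ⟨q₁, hq₁⟩
  have hB₁le : ∀ q : B₁, (q : MvPolynomial (Fin n) R) ∈ m.range := fun q => by
    have hq : (q : MvPolynomial (Fin n) R) ∈ Algebra.adjoin ℤ (G : Set (MvPolynomial (Fin n) R)) := hG.symm ▸ q.2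
    exact (Algebra.adjoin_le (S := m.toIntAlgHom.range) fun x hx =>
      hrange x (Finset.mem_union_left _ hx)) hq
  choose j hj using hB₁le
  let jh : B₁ →+* MvPolynomial (Fin n) R₀ :=
    { toFun := j
      map_one' := hm (by rw [hj, map_one]; rfl)
      map_mul' := fun a b => hm (by rw [hj, map_mul, hj, hj]; rfl)
      map_zero' := hm (by rw [hj, map_zero]; rfl)
      map_add' := fun a b => hm (by rw [hj, map_add, hj, hj]; rfl) }
  letI : Algebra B₁ (MvPolynomial (Fin n) R₀) := jh.toAlgebra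
  letI : Algebra (MvPolynomial (Fin n) R₀) (MvPolynomial (Fin n) R) := m.toAlgebra
  haveI : IsScalarTower B₁ (MvPolynomial (Fin n) R₀) (MvPolynomial (Fin n) R) :=
    IsScalarTower.of_algebraMap_eq fun b => (hj b).symm
  obtain ⟨ε', t₁, ht⟩ := exists_intermediate ε t s hs fun x hx =>
    hrange x.1 (Finset.mem_union_right _ (Finset.mem_image_of_mem _ hx))
  haveI : Algebra.FiniteType (MvPolynomial (Fin n) R₀) (MvPolynomial (Fin n) R₀ ⊗[B₁] C₀) := inferInstance
  have hz : t₁ = 0 := by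
    refine eq_zero_of_vanishes_baseChange (n := n) (R₀ := R₀) (R := R) Subtype.val_injective rfl t₁ ?_
    have h1 := Vanishes.map h ε'.toAlgHom.toRingHom
    rw [← ht]
    convert h1 using 1
    · refine RingHom.ext fun r => ?_
      show _ = ε' (algebraMap R C r)
      rw [IsScalarTower.algebraMap_apply R (MvPolynomial (Fin n) R) C, AlgEquiv.commutes]
      rfl
    · funext i
      exact (ε'.commutes _).symm
    · rfl
  apply ε'.injective
  rw [ht, hz, TensorProduct.tmul_zero, map_zero]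

end Groth.Agent.EtMultisectLib
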