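import Mathlib
import Groth.Agent.EtMultisectLib.Main

/-!
# Étale multisections of an étale algebra over affine space
-/

set_option autoImplicit false
set_option linter.style.haveILetI false

universe u

open CategoryTheory CategoryTheory.Limits AlgebraicGeometry TensorProduct

namespace Groth.Agent.EtMultisectLib

variable {n : ℕ}

/-- The ring theoretic statement: the algebra `Z ⊗ A` of simple roots in an étale algebra over affine space. -/
theorem exists_multisection {R A : Type u} [CommRing R] [CommRing A] (g : MvPolynomial (Fin n) R →+* A) (hg : g.Etale)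
    (f : Fin n → Polynomial R) {Q : Type u} [CommRing Q] (χ : A →+* Q)
    (hχ : Test (χ.comp (g.comp MvPolynomial.C)) f (fun i => χ (g (MvPolynomial.X i)))) :
    ∃ (Z : Type u) (_ : CommRing Z) (j : A →+* Z) (a : Z →+* Q),
      a.comp j = χ ∧ (j.comp (g.comp MvPolynomial.C)).Etale ∧ IsImmersion (Spec.map (CommRingCat.ofHom j)) := by
  let P := MvPolynomial (Fin n) R
  letI : Algebra P A := g.toAlgebra
  letI : Algebra R A := (g.comp MvPolynomial.C).toAlgebra
  haveI : IsScalarTower R P A := IsScalarTower.of_algebraMap_eq' rfl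
  haveI : Algebra.Etale P A := hg
  let S₀ := SimpleRoots R f
  let Z := S₀ ⊗[P] A
  obtain ⟨a₀, ha₀⟩ := exists_hom R f (χ.comp g) hχ
  letI : Algebra P Q := (χ.comp g).toAlgebra
  let a₀' : S₀ →ₐ[P] Q := { a₀ with commutes' := fun p => RingHom.congr_fun ha₀ p }
  let χ' : A →ₐ[P] Q := { χ with commutes' := fun _ => rfl }
  let ia : A →+* Z := (Algebra.TensorProduct.includeRight : A →ₐ[P] Z).toRingHom
  refine ⟨Z, inferInstance, ia,
    (Algebra.TensorProduct.lift a₀' χ' (fun _ _ => Commute.all _ _)).toRingHom, ?_, ?_, ?_⟩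
  · ext x
    show Algebra.TensorProduct.lift a₀' χ' (fun _ _ => Commute.all _ _) ((1 : S₀) ⊗ₜ[P] x) = χ x
    rw [Algebra.TensorProduct.lift_tmul, map_one, one_mul]
    rfl
  · haveI := etale_simpleRoots R f
    haveI : Algebra.Etale R Z := Algebra.Etale.comp R S₀ Z
    rw [show ia.comp (g.comp MvPolynomial.C) = algebraMap R Z from RingHom.ext fun r => by
      show ia (algebraMap P A (algebraMap R P r)) = _
      rw [show ia (algebraMap P A (algebraMap R P r)) = algebraMap P Z (algebraMap R P r) from
        AlgHom.commutes _ _, ← IsScalarTower.algebraMap_apply R P Z]]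
    exact RingHom.etale_algebraMap.mpr inferInstance
  · haveI h0 : IsImmersion (Spec.map (CommRingCat.ofHom (algebraMap P S₀))) := by
      rw [IsScalarTower.algebraMap_eq P (P ⧸ rootsIdeal R f) S₀, CommRingCat.ofHom_comp, Spec.map_comp]
      haveI : IsOpenImmersion (Spec.map (CommRingCat.ofHom (algebraMap (P ⧸ rootsIdeal R f) S₀))) :=
        IsOpenImmersion.of_isLocalization (rootsDenom R f)
      haveI : IsClosedImmersion (Spec.map (CommRingCat.ofHom (algebraMap P (P ⧸ rootsIdeal R f)))) :=
        IsClosedImmersion.spec_of_surjective _ Ideal.Quotient.mk_surjective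
      infer_instance
    have hpo : CategoryTheory.IsPushout (CommRingCat.ofHom (algebraMap P S₀)) (CommRingCat.ofHom (algebraMap P A))
        (CommRingCat.ofHom (algebraMap S₀ Z)) (CommRingCat.ofHom ia) :=
      CommRingCat.isPushout_tensorProduct P S₀ A
    exact MorphismProperty.of_isPullback (isPullback_SpecMap_of_isPushout _ _ _ _ hpo) h0

end Groth.Agent.EtMultisectLib
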