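import Mathlib
import Groth.Agent.EtMultisectLib.Multisection

/-!
# Étale multisections of a smooth scheme are universally schematically dominant
-/

set_option autoImplicit false
set_option linter.style.haveILetI false
set_option backward.isDefEq.respectTransparency false

universe u

open CategoryTheory CategoryTheory.Limits AlgebraicGeometry TensorProduct

namespace Groth.Agent.EtMultisectLib

variable {n : ℕ}

/-- Sections killed by all étale multisections vanish. -/
theorem eq_zero_of_forall_immersion {S S' B' : Scheme.{u}} (g : S' ⟶ S) [Smooth g]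
    (q : B' ⟶ S') [Flat q] [LocallyOfFinitePresentation q] (V : B'.Opens) (t : Γ(B', V))
    (h : ∀ (Z : Scheme.{u}) (j : Z ⟶ S'), IsImmersion j → Etale (j ≫ g) →
      ∀ (T : Scheme.{u}) (a : T ⟶ Z) (b : T ⟶ B'), a ≫ j = b ≫ q → b.app V t = 0) : t = 0 := by
  classical
  have hloc : ∀ x : V, ∃ (W : B'.Opens) (hW : W ≤ V), x.1 ∈ W ∧ B'.presheaf.map (homOfLE hW).op t = 0 := by
    intro ⟨x, hx⟩
    obtain ⟨R₀, hR, U, hU, hxU, eU, hg⟩ := Smooth.exists_isStandardSmooth g (q x)
    obtain ⟨_, ⟨W, hW, rfl⟩, hxW, hWsub⟩ :=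
      B'.isBasis_affineOpens.exists_subset_of_mem_open (a := x) (u := ↑(V ⊓ q ⁻¹ᵁ U)) ⟨hx, hxU⟩ (V ⊓ q ⁻¹ᵁ U).2
    replace hW : IsAffineOpen W := hW
    have hWV : W ≤ V := fun y hy => (hWsub hy).1
    have eW : W ≤ q ⁻¹ᵁ U := fun y hy => (hWsub hy).2
    refine ⟨W, hWV, hxW, ?_⟩
    obtain ⟨n, g₀, hg₀C, hg₀⟩ := RingHom.IsStandardSmooth.exists_etale_mvPolynomial hg
    let P := MvPolynomial (Fin n) Γ(S, R₀)
    letI : Algebra P Γ(B', W) := ((q.appLE U W eW).hom.comp g₀).toAlgebra
    letI : Algebra Γ(S, R₀) Γ(B', W) := (((q.appLE U W eW).hom.comp g₀).comp MvPolynomial.C).toAlgebra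
    haveI : IsScalarTower Γ(S, R₀) P Γ(B', W) := IsScalarTower.of_algebraMap_eq' rfl
    have hflq : (q.appLE U W eW).hom.Flat :=
      HasRingHomProperty.appLE (P := @Flat) q inferInstance ⟨U, hU⟩ ⟨W, hW⟩ eW
    have hfpq : (q.appLE U W eW).hom.FinitePresentation :=
      HasRingHomProperty.appLE (P := @LocallyOfFinitePresentation) q inferInstance ⟨U, hU⟩ ⟨W, hW⟩ eW
    haveI : Module.Flat P Γ(B', W) := RingHom.Flat.comp (RingHom.Etale.iff_flat_and_formallyUnramified.mp hg₀).1 hflq
    haveI : Algebra.FinitePresentation P Γ(B', W) := hfpq.comp (hg₀.finitePresentation)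
    refine eq_zero_of_vanishes (n := n) (R := Γ(S, R₀)) (B'.presheaf.map (homOfLE hWV).op t) ?_
    intro f hf Q _ φ hφ
    obtain ⟨Z, _, j, a, haj, hje, hji⟩ := exists_multisection g₀ hg₀ f (φ.comp (q.appLE U W eW).hom) hφ
    haveI := hji
    let jZ : Spec (CommRingCat.of Z) ⟶ S' := Spec.map (CommRingCat.ofHom j) ≫ hU.fromSpec
    have het : Etale (jZ ≫ g) := by
      simp only [jZ, Category.assoc]
      rw [← IsAffineOpen.SpecMap_appLE_fromSpec g hR hU eU, ← Category.assoc, ← Spec.map_comp]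
      haveI : Etale (Spec.map (g.appLE R₀ U eU ≫ CommRingCat.ofHom j)) := by
        rw [HasRingHomProperty.Spec_iff (P := @Etale), CommRingCat.hom_comp, CommRingCat.hom_ofHom, ← hg₀C]
        exact hje
      infer_instance
    have h1 := h (Spec (CommRingCat.of Z)) jZ inferInstance het (Spec (CommRingCat.of Q))
      (Spec.map (CommRingCat.ofHom a)) (Spec.map (CommRingCat.ofHom φ) ≫ hW.fromSpec) (by
        simp only [jZ, Category.assoc]
        rw [← IsAffineOpen.SpecMap_appLE_fromSpec q hU hW eW, ← Category.assoc, ← Category.assoc,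
          ← Spec.map_comp, ← Spec.map_comp, ← CommRingCat.ofHom_comp, haj]
        rfl)
    let b := Spec.map (CommRingCat.ofHom φ) ≫ hW.fromSpec
    have htop : (⊤ : (Spec (CommRingCat.of Q)).Opens) ≤ b ⁻¹ᵁ W := by
      simp [b, IsAffineOpen.fromSpec_preimage_self]
    have h2 : (Scheme.ΓSpecIso (CommRingCat.of Q)).inv (φ (B'.presheaf.map (homOfLE hWV).op t)) =
        b.appLE V ⊤ (htop.trans (b.preimage_mono hWV)) t := by
      rw [← Scheme.Hom.map_appLE b htop (homOfLE hWV).op, CommRingCat.comp_apply]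
      generalize B'.presheaf.map (homOfLE hWV).op t = w
      have hm : CommRingCat.ofHom φ ≫ (Scheme.ΓSpecIso (CommRingCat.of Q)).inv = b.appLE W ⊤ htop := by
        rw [Scheme.ΓSpecIso_inv_naturality]
        simp only [b]
        rw [← Scheme.Hom.appLE_comp_appLE (Spec.map (CommRingCat.ofHom φ)) hW.fromSpec W ⊤ ⊤
            (by simp [IsAffineOpen.fromSpec_preimage_self]) le_top,
          Scheme.Hom.appLE, IsAffineOpen.fromSpec_app_self]
        simp [Scheme.Hom.appLE]
        congr 1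
      exact congr($(hm).hom w)
    apply (ConcreteCategory.bijective_of_isIso (Scheme.ΓSpecIso (CommRingCat.of Q)).inv).injective
    rw [map_zero, h2, Scheme.Hom.appLE, CommRingCat.comp_apply, h1, map_zero]
  choose W hWV hxW hW0 using hloc
  refine TopCat.Sheaf.eq_of_locally_eq' B'.sheaf W V (fun x => homOfLE (hWV x)) (fun y hy => ?_) t 0 (fun x => ?_)
  · exact TopologicalSpace.Opens.mem_iSup.mpr ⟨⟨y, hy⟩, hxW _⟩
  · rw [map_zero]; exact hW0 x

end Groth.Agent.EtMultisectLib
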